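import Cfsg.Agent.Lib.Spor.ONTriple.Pack
import Cfsg.Agent.Lib.Spor.ONTriple.Data
import Cfsg.Agent.Lib.Spor.ONPres

/-!
The relators of the presented O'Nan group evaluate to scalar matrices; the seven matrices have determinant one.
-/

set_option autoImplicit false
set_option maxRecDepth 100000
set_option Elab.async false

namespace Cfsg.Agent.Spor.ONTriple

/-- the seven matrices -/
def gens (k : ℕ) : List ℕ := [g0, g1, g2, g3, g4, g5, g6].getD k g0

theorem good_g0 : g0.length = 45 ∧ ((List.range 45).all fun i => (List.range 45).all fun j =>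
    Nat.blt (dig (g0.getD i 0) j) 7) = true := by decide +kernel

theorem good_p0 : p0.length = 45 ∧ ((List.range 45).all fun i => (List.range 45).all fun j =>
    Nat.blt (dig (p0.getD i 0) j) 7) = true := by decide +kernel

theorem good_q0 : q0.length = 45 ∧ ((List.range 45).all fun i => (List.range 45).all fun j =>
    Nat.blt (dig (q0.getD i 0) j) 7) = true := by decide +kernel

theorem diag0 : diagOK g0 p0 q0 n0 = true := by decide +kernel

theorem sign0 : (∏ i : Fin 45, (if (i : ℕ) < n0 then (1 : ZMod 7) else 6)) = 1 := by decide +kernel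

theorem good_g1 : g1.length = 45 ∧ ((List.range 45).all fun i => (List.range 45).all fun j =>
    Nat.blt (dig (g1.getD i 0) j) 7) = true := by decide +kernel

theorem good_p1 : p1.length = 45 ∧ ((List.range 45).all fun i => (List.range 45).all fun j =>
    Nat.blt (dig (p1.getD i 0) j) 7) = true := by decide +kernel

theorem good_q1 : q1.length = 45 ∧ ((List.range 45).all fun i => (List.range 45).all fun j =>
    Nat.blt (dig (q1.getD i 0) j) 7) = true := by decide +kernel

theorem diag1 : diagOK g1 p1 q1 n1 = true := by decide +kernel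

theorem sign1 : (∏ i : Fin 45, (if (i : ℕ) < n1 then (1 : ZMod 7) else 6)) = 1 := by decide +kernel

theorem good_g2 : g2.length = 45 ∧ ((List.range 45).all fun i => (List.range 45).all fun j =>
    Nat.blt (dig (g2.getD i 0) j) 7) = true := by decide +kernel

theorem good_p2 : p2.length = 45 ∧ ((List.range 45).all fun i => (List.range 45).all fun j =>
    Nat.blt (dig (p2.getD i 0) j) 7) = true := by decide +kernel

theorem good_q2 : q2.length = 45 ∧ ((List.range 45).all fun i => (List.range 45).all fun j =>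
    Nat.blt (dig (q2.getD i 0) j) 7) = true := by decide +kernel

theorem diag2 : diagOK g2 p2 q2 n2 = true := by decide +kernel

theorem sign2 : (∏ i : Fin 45, (if (i : ℕ) < n2 then (1 : ZMod 7) else 6)) = 1 := by decide +kernel

theorem good_g3 : g3.length = 45 ∧ ((List.range 45).all fun i => (List.range 45).all fun j =>
    Nat.blt (dig (g3.getD i 0) j) 7) = true := by decide +kernel

theorem good_p3 : p3.length = 45 ∧ ((List.range 45).all fun i => (List.range 45).all fun j =>
    Nat.blt (dig (p3.getD i 0) j) 7) = true := by decide +kernel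

theorem good_q3 : q3.length = 45 ∧ ((List.range 45).all fun i => (List.range 45).all fun j =>
    Nat.blt (dig (q3.getD i 0) j) 7) = true := by decide +kernel

theorem diag3 : diagOK g3 p3 q3 n3 = true := by decide +kernel

theorem sign3 : (∏ i : Fin 45, (if (i : ℕ) < n3 then (1 : ZMod 7) else 6)) = 1 := by decide +kernel

theorem good_g4 : g4.length = 45 ∧ ((List.range 45).all fun i => (List.range 45).all fun j =>
    Nat.blt (dig (g4.getD i 0) j) 7) = true := by decide +kernel

theorem good_p4 : p4.length = 45 ∧ ((List.range 45).all fun i => (List.range 45).all fun j =>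
    Nat.blt (dig (p4.getD i 0) j) 7) = true := by decide +kernel

theorem good_q4 : q4.length = 45 ∧ ((List.range 45).all fun i => (List.range 45).all fun j =>
    Nat.blt (dig (q4.getD i 0) j) 7) = true := by decide +kernel

theorem diag4 : diagOK g4 p4 q4 n4 = true := by decide +kernel

theorem sign4 : (∏ i : Fin 45, (if (i : ℕ) < n4 then (1 : ZMod 7) else 6)) = 1 := by decide +kernel

theorem good_g5 : g5.length = 45 ∧ ((List.range 45).all fun i => (List.range 45).all fun j =>
    Nat.blt (dig (g5.getD i 0) j) 7) = true := by decide +kernel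

theorem good_p5 : p5.length = 45 ∧ ((List.range 45).all fun i => (List.range 45).all fun j =>
    Nat.blt (dig (p5.getD i 0) j) 7) = true := by decide +kernel

theorem good_q5 : q5.length = 45 ∧ ((List.range 45).all fun i => (List.range 45).all fun j =>
    Nat.blt (dig (q5.getD i 0) j) 7) = true := by decide +kernel

theorem diag5 : diagOK g5 p5 q5 n5 = true := by decide +kernel

theorem sign5 : (∏ i : Fin 45, (if (i : ℕ) < n5 then (1 : ZMod 7) else 6)) = 1 := by decide +kernel

theorem good_g6 : g6.length = 45 ∧ ((List.range 45).all fun i => (List.range 45).all fun j =>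
    Nat.blt (dig (g6.getD i 0) j) 7) = true := by decide +kernel

theorem good_p6 : p6.length = 45 ∧ ((List.range 45).all fun i => (List.range 45).all fun j =>
    Nat.blt (dig (p6.getD i 0) j) 7) = true := by decide +kernel

theorem good_q6 : q6.length = 45 ∧ ((List.range 45).all fun i => (List.range 45).all fun j =>
    Nat.blt (dig (q6.getD i 0) j) 7) = true := by decide +kernel

theorem diag6 : diagOK g6 p6 q6 n6 = true := by decide +kernel

theorem sign6 : (∏ i : Fin 45, (if (i : ℕ) < n6 then (1 : ZMod 7) else 6)) = 1 := by decide +kernel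

theorem rel0 : scalOK gens [0, 0] 1 = true := by decide +kernel

theorem rel1 : scalOK gens [1, 1] 1 = true := by decide +kernel

theorem rel2 : scalOK gens [2, 2] 1 = true := by decide +kernel

theorem rel3 : scalOK gens [3, 3] 1 = true := by decide +kernel

theorem rel4 : scalOK gens [4, 4] 1 = true := by decide +kernel

theorem rel5 : scalOK gens [5, 5] 1 = true := by decide +kernel

theorem rel6 : scalOK gens [6, 6] 1 = true := by decide +kernel

theorem rel7 : scalOK gens [0, 1, 0, 1, 0, 1] 1 = true := by decide +kernel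

theorem rel8 : scalOK gens [0, 2, 0, 2] 1 = true := by decide +kernel

theorem rel9 : scalOK gens [1, 2, 1, 2, 1, 2] 1 = true := by decide +kernel

theorem rel10 : scalOK gens [0, 3, 0, 3] 1 = true := by decide +kernel

theorem rel11 : scalOK gens [1, 3, 1, 3] 1 = true := by decide +kernel

theorem rel12 : scalOK gens [2, 3, 2, 3, 2, 3, 2, 3, 2, 3, 2, 3, 2, 3, 2, 3] 1 = true := by decide +kernel

theorem rel13 : scalOK gens [0, 4, 0, 4] 1 = true := by decide +kernel

theorem rel14 : scalOK gens [1, 4, 1, 4] 1 = true := by decide +kernel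

theorem rel15 : scalOK gens [2, 4, 2, 4] 1 = true := by decide +kernel

theorem rel16 : scalOK gens [3, 4, 3, 4, 3, 4] 1 = true := by decide +kernel

theorem rel17 : scalOK gens [0, 5, 0, 5] 1 = true := by decide +kernel

theorem rel18 : scalOK gens [1, 5, 1, 5] 1 = true := by decide +kernel

theorem rel19 : scalOK gens [2, 5, 2, 5] 1 = true := by decide +kernel

theorem rel20 : scalOK gens [3, 5, 3, 5] 1 = true := by decide +kernel

theorem rel21 : scalOK gens [4, 5, 4, 5, 4, 5] 1 = true := by decide +kernel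

theorem rel22 : scalOK gens [] 1 = true := by decide +kernel

theorem rel23 : scalOK gens [] 1 = true := by decide +kernel

theorem rel24 : scalOK gens [] 1 = true := by decide +kernel

theorem rel25 : scalOK gens [] 1 = true := by decide +kernel

theorem rel26 : scalOK gens [] 1 = true := by decide +kernel

theorem rel27 : scalOK gens [] 1 = true := by decide +kernel

theorem rel28 : scalOK gens [0, 5, 2, 3, 2, 3, 6, 2, 3, 2, 3, 6] 1 = true := by decide +kernel

theorem rel29 : scalOK gens [0, 5, 3, 2, 3, 2, 3, 2, 3, 2] 1 = true := by decide +kernel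

theorem rel30 : scalOK gens [3, 2, 3, 6, 3, 2, 3, 2, 3, 6, 3, 2, 3, 6, 3, 2, 3, 2, 3, 6, 3, 2, 3, 2] 1 = true := by decide +kernel

theorem rel31 : scalOK gens [3, 2, 3, 2, 3, 6, 3, 2, 3, 6, 2, 3, 2, 6, 3, 2, 3, 6, 3, 2, 3, 2] 1 = true := by decide +kernel

theorem rel32 : scalOK gens [1, 2, 3, 6, 3, 2, 3, 2, 1, 2, 3, 6, 3, 2, 3, 2, 1, 2, 3, 6, 3, 2, 3, 2, 1, 2, 3, 6, 3, 2, 3, 2, 1, 2, 3, 6, 3, 2, 3, 2] 4 = true := by decide +kernel

theorem rel33 : scalOK gens [6, 3, 2, 3, 2, 1, 2, 6, 3, 2, 3, 1, 6, 3, 2, 3, 2, 1, 2, 6, 3, 2, 3] 4 = true := by decide +kernel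

theorem rel34 : scalOK gens [6, 3, 2, 3, 2, 4, 3, 6, 3, 2, 3, 2, 3, 4, 6, 3, 2, 3, 2, 4, 3, 6, 3, 2, 3, 2, 3] 4 = true := by decide +kernel

/-- the relators with their scalars -/
def relData : List (List ℕ × ℕ) := [
  ([0, 0], 1),
  ([1, 1], 1),
  ([2, 2], 1),
  ([3, 3], 1),
  ([4, 4], 1),
  ([5, 5], 1),
  ([6, 6], 1),
  ([0, 1, 0, 1, 0, 1], 1),
  ([0, 2, 0, 2], 1),
  ([1, 2, 1, 2, 1, 2], 1),
  ([0, 3, 0, 3], 1),
  ([1, 3, 1, 3], 1),
  ([2, 3, 2, 3, 2, 3, 2, 3, 2, 3, 2, 3, 2, 3, 2, 3], 1),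
  ([0, 4, 0, 4], 1),
  ([1, 4, 1, 4], 1),
  ([2, 4, 2, 4], 1),
  ([3, 4, 3, 4, 3, 4], 1),
  ([0, 5, 0, 5], 1),
  ([1, 5, 1, 5], 1),
  ([2, 5, 2, 5], 1),
  ([3, 5, 3, 5], 1),
  ([4, 5, 4, 5, 4, 5], 1),
  ([], 1),
  ([], 1),
  ([], 1),
  ([], 1),
  ([], 1),
  ([], 1),
  ([0, 5, 2, 3, 2, 3, 6, 2, 3, 2, 3, 6], 1),
  ([0, 5, 3, 2, 3, 2, 3, 2, 3, 2], 1),
  ([3, 2, 3, 6, 3, 2, 3, 2, 3, 6, 3, 2, 3, 6, 3, 2, 3, 2, 3, 6, 3, 2, 3, 2], 1),
  ([3, 2, 3, 2, 3, 6, 3, 2, 3, 6, 2, 3, 2, 6, 3, 2, 3, 6, 3, 2, 3, 2], 1),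
  ([1, 2, 3, 6, 3, 2, 3, 2, 1, 2, 3, 6, 3, 2, 3, 2, 1, 2, 3, 6, 3, 2, 3, 2, 1, 2, 3, 6, 3, 2, 3, 2, 1, 2, 3, 6, 3, 2, 3, 2], 4),
  ([6, 3, 2, 3, 2, 1, 2, 6, 3, 2, 3, 1, 6, 3, 2, 3, 2, 1, 2, 6, 3, 2, 3], 4),
  ([6, 3, 2, 3, 2, 4, 3, 6, 3, 2, 3, 2, 3, 4, 6, 3, 2, 3, 2, 4, 3, 6, 3, 2, 3, 2, 3], 4)]

theorem relData_ok : ∀ e ∈ relData, scalOK gens e.1 e.2 = true := by
  simp only [relData, List.forall_mem_cons]
  exact ⟨rel0, rel1, rel2, rel3, rel4, rel5, rel6, rel7, rel8, rel9, rel10, rel11, rel12, rel13, rel14, rel15, rel16, rel17, rel18, rel19, rel20, rel21, rel22, rel23, rel24, rel25, rel26, rel27, rel28, rel29, rel30, rel31, rel32, rel33, rel34, fun _ h => absurd h (List.not_mem_nil)⟩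

theorem relData_words : relData.map Prod.fst = Cfsg.Agent.Spor.ONCert.pres.relW := by decide +kernel

theorem relData_small : ∀ e ∈ relData, (e.2 = 1 ∨ e.2 = 2 ∨ e.2 = 4) ∧ ∀ x ∈ e.1, x < 7 := by decide +kernel

end Cfsg.Agent.Spor.ONTriple
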