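import Cfsg.Agent.Lib.Spor.ONTriple.Checks
import Cfsg.Agent.Lib.Spor.ONMain
import Cfsg.Prelude.Def_Sporadic

/-!
The triple cover of the O'Nan group inside the special linear group of degree forty-five over the field
of seven elements.
-/

set_option autoImplicit false

namespace Cfsg.Agent.Spor.ONTriple

open Cfsg.Agent.Spor.CC Cfsg.Agent.Spor.ONCert

theorem good_of {A : List ℕ} (h : A.length = 45 ∧ ((List.range 45).all fun i => (List.range 45).all fun j =>
    Nat.blt (dig (A.getD i 0) j) 7) = true) : Good A :=
  ⟨h.1, fun i hi j hj => Nat.le_of_ble_eq_true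
    (List.all_eq_true.mp (List.all_eq_true.mp h.2 i (List.mem_range.mpr hi)) j (List.mem_range.mpr hj))⟩

theorem gens_good {k : ℕ} (hk : k < 7) : Good (gens k) := by
  interval_cases k
  exacts [good_of good_g0, good_of good_g1, good_of good_g2, good_of good_g3, good_of good_g4, good_of good_g5,
    good_of good_g6]

theorem gens_det {k : ℕ} (hk : k < 7) : (toM (gens k)).det = 1 := by
  interval_cases k
  exacts [det_spec (good_of good_g0) (good_of good_p0) (good_of good_q0) sign0 diag0,
    det_spec (good_of good_g1) (good_of good_p1) (good_of good_q1) sign1 diag1,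
    det_spec (good_of good_g2) (good_of good_p2) (good_of good_q2) sign2 diag2,
    det_spec (good_of good_g3) (good_of good_p3) (good_of good_q3) sign3 diag3,
    det_spec (good_of good_g4) (good_of good_p4) (good_of good_q4) sign4 diag4,
    det_spec (good_of good_g5) (good_of good_p5) (good_of good_q5) sign5 diag5,
    det_spec (good_of good_g6) (good_of good_p6) (good_of good_q6) sign6 diag6]

/-- the special linear group of degree forty-five over the field of seven elements -/
abbrev SL45 : Type := Matrix.SpecialLinearGroup (Fin 45) (ZMod 7)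

/-- the projective group -/
abbrev PSL45 : Type := SL45 ⧸ Subgroup.center SL45

/-- one matrix as a group element -/
def mkSL (k : ℕ) (h : k < 7) : SL45 := ⟨toM (gens k), gens_det h⟩

/-- the seven matrices as group elements -/
def lift (k : ℕ) : SL45 := if h : k < 7 then mkSL k h else 1

theorem lift_val {k : ℕ} (hk : k < 7) : ((lift k : SL45) : Matrix (Fin 45) (Fin 45) (ZMod 7)) = toM (gens k) := by
  rw [lift, dif_pos hk]
  rfl

/-- their images in the projective group -/
def proj (k : ℕ) : PSL45 := QuotientGroup.mk (lift k)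

instance prime_seven' : Fact (Nat.Prime 7) := ⟨by norm_num⟩

theorem scalar_central {c : ℕ} (A : SL45)
    (h : (A : Matrix (Fin 45) (Fin 45) (ZMod 7)) = Matrix.scalar (Fin 45) (c : ZMod 7)) :
    A ∈ Subgroup.center SL45 := by
  refine Subgroup.mem_center_iff.mpr fun B => Subtype.ext ?_
  rw [Matrix.SpecialLinearGroup.coe_mul, Matrix.SpecialLinearGroup.coe_mul, h]
  exact ((Matrix.scalar_commute (c : ZMod 7) (fun r => mul_comm _ r) (B : Matrix (Fin 45) (Fin 45) (ZMod 7))).eq).symm

theorem prod_val : ∀ (w : List ℕ), (∀ x ∈ w, x < 7) →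
    (((w.map lift).prod : SL45) : Matrix (Fin 45) (Fin 45) (ZMod 7)) = (w.map fun x => toM (gens x)).prod
  | [], _ => by simp
  | x :: w, h => by
    rw [List.map_cons, List.prod_cons, List.map_cons, List.prod_cons, Matrix.SpecialLinearGroup.coe_mul,
      lift_val (h x (List.mem_cons_self ..)), prod_val w fun y hy => h y (List.mem_cons_of_mem _ hy)]

theorem rel_one {w : List ℕ} (hw : w ∈ pres.relW) : (w.map proj).prod = 1 := by
  rw [← relData_words, List.mem_map] at hw
  obtain ⟨⟨w', c⟩, he, rfl⟩ := hw
  obtain ⟨hc, hlt⟩ := relData_small _ he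
  have hs := scal_spec gens w' (fun x hx => gens_good (hlt x hx)) (c := c)
    (by rcases hc with h | h | h <;> simp_all) (relData_ok _ he)
  have hz : (w'.map lift).prod ∈ Subgroup.center SL45 :=
    scalar_central (c := c) _ ((prod_val w' hlt).trans hs)
  have e : (w'.map proj).prod = QuotientGroup.mk' (Subgroup.center SL45) (w'.map lift).prod := by
    rw [map_list_prod, List.map_map]; rfl
  show (w'.map proj).prod = 1
  rw [e]
  exact (QuotientGroup.eq_one_iff _).mpr hz

theorem proj_sq (x : ℕ) : proj x * proj x = 1 := by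
  by_cases hx : x < 7
  · have := rel_one (w := [x, x]) (by
      simp only [Pres.relW, List.mem_append, List.mem_map, List.mem_range]
      exact Or.inl (Or.inl ⟨x, hx, rfl⟩))
    simpa using this
  · have hl : lift x = 1 := by rw [lift, dif_neg hx]
    have : proj x = 1 := by rw [proj, hl]; rfl
    rw [this, one_mul]

/-- the representation of the presented group -/
def rep : pres.Grp →* PSL45 :=
  PresentedGroup.toGroup (f := proj ∘ pres.ix) (by
    intro r hr
    rcases hr with ⟨x, -, y, -, rfl⟩ | hr
    · rw [map_pow, map_mul, FreeGroup.lift_apply_of, FreeGroup.lift_apply_of, Function.comp_apply,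
        Function.comp_apply]
      rcases lt_trichotomy (pres.ix x) (pres.ix y) with hlt | heq | hgt
      · have := rel_one (w := powW (Cfsg.Spor.coxLabel pres.edges (pres.nm (pres.ix x)) (pres.nm (pres.ix y)))
            [pres.ix x, pres.ix y]) (by
          simp only [Pres.relW, List.mem_append, List.mem_map, List.mem_flatMap, List.mem_range]
          exact Or.inl (Or.inr ⟨_, pres_ok.ix_lt y, _, hlt, rfl⟩))
        rw [prod_powW, pres_ok.nm_ix, pres_ok.nm_ix] at this
        simpa using this
      · rw [heq, proj_sq, one_pow]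
      · have := rel_one (w := powW (Cfsg.Spor.coxLabel pres.edges (pres.nm (pres.ix y)) (pres.nm (pres.ix x)))
            [pres.ix y, pres.ix x]) (by
          simp only [Pres.relW, List.mem_append, List.mem_map, List.mem_flatMap, List.mem_range]
          exact Or.inl (Or.inr ⟨_, pres_ok.ix_lt x, _, hgt, rfl⟩))
        rw [prod_powW, pres_ok.symm _ (pres_ok.ix_lt y) _ (pres_ok.ix_lt x), pres_ok.nm_ix, pres_ok.nm_ix] at this
        simp only [List.map_cons, List.map_nil, List.prod_cons, List.prod_nil, mul_one] at this
        have e : proj (pres.ix x) * proj (pres.ix y) = (proj (pres.ix y) * proj (pres.ix x))⁻¹ := by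
          rw [mul_inv_rev, inv_eq_of_mul_eq_one_left (proj_sq _), inv_eq_of_mul_eq_one_left (proj_sq _)]
        rw [e, inv_pow, this, inv_one]
    · have key := pres_ok.extra_eq PSL45 proj proj_sq
      have hmem : FreeGroup.lift (proj ∘ pres.ix) r ∈ pres.extra.map (FreeGroup.lift (proj ∘ pres.ix)) :=
        List.mem_map.mpr ⟨r, hr, rfl⟩
      rw [key] at hmem
      obtain ⟨w, hw, e⟩ := List.mem_map.mp hmem
      rw [← e]
      exact rel_one (by simp [Pres.relW, hw]))

theorem first_not_diag : dig (g0.getD 0 0) 1 ≠ 0 ∨ dig (g0.getD 0 0) 2 ≠ 0 := by decide +kernel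

theorem rep_ne : rep ≠ 1 := fun h => by
  have h1 : proj 0 = 1 := by
    have := DFunLike.congr_fun h (PresentedGroup.of Node.a)
    rwa [rep, PresentedGroup.toGroup.of] at this
  obtain ⟨c, -, hc⟩ := Matrix.SpecialLinearGroup.mem_center_iff.mp ((QuotientGroup.eq_one_iff _).mp h1)
  have h0 : ∀ j : Fin 45, (0 : Fin 45) ≠ j → dig (g0.getD 0 0) j = 0 := fun j hj => by
    have e := congrFun (congrFun hc 0) j
    rw [Matrix.scalar_apply, Matrix.diagonal_apply_ne _ hj, lift_val (k := 0) (by norm_num)] at e
    have hlt : dig (g0.getD 0 0) (j : ℕ) < 7 := (good_of good_g0).2 0 (by norm_num) j j.2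
    have e2 : ((dig (g0.getD 0 0) (j : ℕ) : ℕ) : ZMod 7) = 0 := e.symm
    have e3 := congrArg ZMod.val e2
    rwa [ZMod.val_natCast, Nat.mod_eq_of_lt hlt, ZMod.val_zero] at e3
  rcases first_not_diag with h' | h'
  · exact h' (h0 1 (by decide))
  · exact h' (h0 2 (by decide))

theorem card_center : Nat.card (Subgroup.center SL45) = 3 := by
  have e := Nat.card_congr (Matrix.SpecialLinearGroup.center_equiv_rootsOfUnity (n := Fin 45) (R := ZMod 7)).toEquiv
  rw [e, Fintype.card_fin, show max 45 1 = 45 from rfl]
  have : Nat.card {u : (ZMod 7)ˣ // u ^ 45 = 1} = 3 := by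
    rw [Nat.card_eq_fintype_card]; decide +kernel
  exact (Nat.card_congr (Equiv.subtypeEquivRight fun u => by rw [mem_rootsOfUnity])).trans this

/-- the triple cover -/
def cover : Subgroup SL45 := rep.range.comap (QuotientGroup.mk' _)

theorem spec : Nat.card (Subgroup.center cover) = 3 ∧ Cfsg.IsON (cover ⧸ Subgroup.center cover) := by
  haveI := simple facts
  have hcard : Nat.card pres.Grp = 460815505920 := card facts
  have hinj : Function.Injective rep := by
    refine (MonoidHom.ker_eq_bot_iff rep).1 ?_
    rcases IsSimpleGroup.eq_bot_or_eq_top_of_normal rep.ker (MonoidHom.normal_ker rep) with h | h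
    · exact h
    · exact absurd (MonoidHom.ext fun x => MonoidHom.mem_ker.mp (h ▸ Subgroup.mem_top x)) rep_ne
  let eK : pres.Grp ≃* rep.range := MonoidHom.ofInjective hinj
  haveI : IsSimpleGroup rep.range :=
    haveI : Nontrivial rep.range := eK.symm.toEquiv.nontrivial
    IsSimpleGroup.isSimpleGroup_of_surjective eK.toMonoidHom eK.surjective
  have hK : Nat.card rep.range = 460815505920 := (Nat.card_congr eK.toEquiv).symm.trans hcard
  let π : cover →* rep.range :=
    ((QuotientGroup.mk' (Subgroup.center SL45)).comp cover.subtype).codRestrict rep.range fun x => x.2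
  have hπ : Function.Surjective π := fun y => by
    obtain ⟨A, hA⟩ := QuotientGroup.mk'_surjective (Subgroup.center SL45) y.1
    exact ⟨⟨A, by rw [cover, Subgroup.mem_comap, hA]; exact y.2⟩, Subtype.ext hA⟩
  have hker : ∀ x : cover, x ∈ π.ker ↔ (x : SL45) ∈ Subgroup.center SL45 := fun x => by
    rw [MonoidHom.mem_ker, Subtype.ext_iff]
    exact QuotientGroup.eq_one_iff _
  have hle : π.ker ≤ Subgroup.center cover := fun x hx =>
    Subgroup.mem_center_iff.mpr fun y => Subtype.ext (Subgroup.mem_center_iff.mp ((hker x).mp hx) y)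
  have hbot : Subgroup.center rep.range = ⊥ := by
    rcases IsSimpleGroup.eq_bot_or_eq_top_of_normal (Subgroup.center rep.range) inferInstance with h | h
    · exact h
    · exfalso
      have hc : ∀ a b : rep.range, a * b = b * a := fun a b =>
        (Subgroup.mem_center_iff.mp (h ▸ Subgroup.mem_top a : a ∈ Subgroup.center rep.range) b).symm
      letI : CommGroup rep.range := { (inferInstance : Group rep.range) with mul_comm := hc }
      have hp := IsSimpleGroup.prime_card (α := rep.range)
      rw [hK] at hp
      revert hp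
      norm_num
  have hge : Subgroup.center cover ≤ π.ker := fun x hx => by
    rw [MonoidHom.mem_ker, ← Subgroup.mem_bot, ← hbot]
    refine Subgroup.mem_center_iff.mpr fun y => ?_
    obtain ⟨z, rfl⟩ := hπ y
    rw [← map_mul, ← map_mul, Subgroup.mem_center_iff.mp hx z]
  have heq : π.ker = Subgroup.center cover := le_antisymm hle hge
  refine ⟨?_, ?_⟩
  · rw [← card_center, ← heq]
    refine Nat.card_congr ⟨fun x => ⟨x.1.1, (hker x.1).mp x.2⟩, fun z => ⟨⟨z.1, ?_⟩, (hker _).mpr z.2⟩,
      fun x => rfl, fun z => rfl⟩
    rw [cover, Subgroup.mem_comap, show QuotientGroup.mk' _ (z : SL45) = 1 from (QuotientGroup.eq_one_iff _).mpr z.2]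
    exact one_mem _
  · let eQ : cover ⧸ Subgroup.center cover ≃* rep.range :=
      (QuotientGroup.quotientMulEquivOfEq heq.symm).trans (QuotientGroup.quotientKerEquivOfSurjective π hπ)
    haveI : Nontrivial (cover ⧸ Subgroup.center cover) := eQ.toEquiv.nontrivial
    exact ⟨IsSimpleGroup.isSimpleGroup_of_surjective eQ.symm.toMonoidHom eQ.symm.surjective,
      (Nat.card_congr eQ.toEquiv).trans hK⟩

end Cfsg.Agent.Spor.ONTriple
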