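import Mathlib

/-!
Matrices of degree forty-five modulo seven with one packed natural number per row.
-/

set_option autoImplicit false

namespace Cfsg.Agent.Spor.ONTriple

open Matrix

/-- a slot of a packed row -/
def dig (c i : ℕ) : ℕ := Nat.land (Nat.shiftRight c (Nat.mul 16 i)) 65535

/-- all slots reduced modulo seven -/
def reduce (c : ℕ) : ℕ :=
  (List.range 45).foldr (fun i r => Nat.add (Nat.shiftLeft r 16) (Nat.mod (dig c i) 7)) 0

/-- combination of rows -/
noncomputable def comb (A : List ℕ) : ℕ → ℕ :=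
  A.rec (fun _ => 0) (fun a _ ih x => Nat.add (Nat.mul a (Nat.land x 65535)) (ih (Nat.shiftRight x 16)))

/-- a row times a matrix -/
noncomputable def rowMul (r : ℕ) (A : List ℕ) : ℕ := reduce (comb A r)

/-- pass on an evaluated number -/
def force : ℕ → (ℕ → Bool) → Bool
  | 0, k => k 0
  | m + 1, k => k (m + 1)

theorem force_eq (n : ℕ) (k : ℕ → Bool) : force n k = k n := by cases n <;> rfl

/-- a row pushed through a word ends in the given row -/
noncomputable def runTo (G : ℕ → List ℕ) (w : List ℕ) : ℕ → ℕ → Bool :=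
  w.rec (fun r t => Nat.beq r t) (fun x _ ih r t => force (rowMul r (G x)) fun r' => ih r' t)

/-- a packed row as a vector -/
def toV (r : ℕ) : Fin 45 → ZMod 7 := fun i => (dig r i : ZMod 7)

/-- packed rows as a matrix -/
def toM (A : List ℕ) : Matrix (Fin 45) (Fin 45) (ZMod 7) :=
  Matrix.of fun i j => (dig (A.getD i 0) j : ZMod 7)

/-- all slots of a row are reduced -/
def Small (r : ℕ) : Prop := ∀ j < 45, dig r j < 7

/-- all slots of a matrix are reduced -/
def Good (A : List ℕ) : Prop := A.length = 45 ∧ ∀ i < 45, Small (A.getD i 0)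

theorem dig_eq (c i : ℕ) : dig c i = c / (2 ^ 16) ^ i % 2 ^ 16 := by
  show (c >>> (16 * i)) &&& (2 ^ 16 - 1) = _
  rw [Nat.shiftRight_eq_div_pow, Nat.and_two_pow_sub_one_eq_mod, pow_mul]

theorem dig_succ (c i : ℕ) : dig c (i + 1) = dig (c / 2 ^ 16) i := by
  rw [dig_eq, dig_eq, pow_succ', Nat.div_div_eq_div_mul]

theorem dig_zero (c : ℕ) : dig c 0 = c % 2 ^ 16 := by rw [dig_eq, pow_zero, Nat.div_one]

theorem dig_null (i : ℕ) : dig 0 i = 0 := by rw [dig_eq, Nat.zero_div, Nat.zero_mod]

theorem dig_lin (x : ℕ) : ∀ (i a b : ℕ), (∀ j ≤ i, dig a j * x + dig b j < 2 ^ 16) →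
    dig (a * x + b) i = dig a i * x + dig b i := by
  have hsplit : ∀ a b, dig a 0 * x + dig b 0 < 2 ^ 16 →
      (a * x + b) % 2 ^ 16 = dig a 0 * x + dig b 0 ∧
      (a * x + b) / 2 ^ 16 = a / 2 ^ 16 * x + b / 2 ^ 16 := fun a b h => by
    rw [dig_zero, dig_zero] at h ⊢
    have e : a * x + b = (a % 2 ^ 16 * x + b % 2 ^ 16) + 2 ^ 16 * (a / 2 ^ 16 * x + b / 2 ^ 16) := by
      conv_lhs => rw [← Nat.mod_add_div a (2 ^ 16), ← Nat.mod_add_div b (2 ^ 16)]
      ring
    exact ⟨by rw [e, Nat.add_mul_mod_self_left, Nat.mod_eq_of_lt h],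
      by rw [e, Nat.add_mul_div_left _ _ (by norm_num), Nat.div_eq_of_lt h, Nat.zero_add]⟩
  intro i
  induction i with
  | zero =>
    intro a b h
    rw [dig_zero]
    exact (hsplit a b (h 0 le_rfl)).1
  | succ i ih =>
    intro a b h
    rw [dig_succ, (hsplit a b (h 0 (Nat.zero_le _))).2, dig_succ, dig_succ]
    exact ih _ _ fun j hj => by simpa only [← dig_succ] using h (j + 1) (by omega)

theorem dig_fold : ∀ (n : ℕ) (f : ℕ → ℕ), (∀ i, f i < 2 ^ 16) → ∀ i < n,
    dig ((List.range n).foldr (fun k r => r * 2 ^ 16 + f k) 0) i = f i := by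
  intro n
  induction n with
  | zero => intro f _ i hi; omega
  | succ n ih =>
    intro f hf i hi
    rw [List.range_succ_eq_map, List.foldr_cons, List.foldr_map]
    rcases i with _ | i
    · rw [dig_zero, Nat.mul_comm, Nat.mul_add_mod, Nat.mod_eq_of_lt (hf 0)]
    · rw [dig_succ, Nat.mul_comm, Nat.mul_add_div (by norm_num), Nat.div_eq_of_lt (hf 0), Nat.add_zero]
      exact ih (fun k => f (k + 1)) (fun k => hf _) i (by omega)

theorem dig_reduce (c : ℕ) {i : ℕ} (hi : i < 45) : dig (reduce c) i = dig c i % 7 := by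
  have e : (fun i r => Nat.add (Nat.shiftLeft r 16) (Nat.mod (dig c i) 7)) =
      fun i r => r * 2 ^ 16 + dig c i % 7 := by
    funext i r
    show r <<< 16 + dig c i % 7 = _
    rw [Nat.shiftLeft_eq]
  rw [reduce, e]
  exact dig_fold 45 (fun k => dig c k % 7) (fun k => (Nat.mod_lt _ (by norm_num)).trans (by norm_num)) i hi

theorem small_reduce (c : ℕ) : Small (reduce c) := fun j hj => by
  rw [dig_reduce c hj]; exact Nat.mod_lt _ (by norm_num)

theorem comb_sum : ∀ (A : List ℕ) (x : ℕ),
    comb A x = ∑ k ∈ Finset.range A.length, A.getD k 0 * dig x k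
  | [], x => by simp [comb]
  | a :: A, x => by
    have e : comb (a :: A) x = a * (x &&& (2 ^ 16 - 1)) + comb A (x >>> 16) := rfl
    rw [e, comb_sum A, List.length_cons, Finset.sum_range_succ', Nat.and_two_pow_sub_one_eq_mod,
      Nat.shiftRight_eq_div_pow, ← dig_zero, Nat.add_comm]
    simp only [List.getD_cons_succ, List.getD_cons_zero, dig_succ]

theorem dig_comb {A : List ℕ} {x : ℕ} (hA : Good A) (hx : Small x) :
    ∀ n ≤ 45, ∀ j < 45,
      dig (∑ k ∈ Finset.range n, A.getD k 0 * dig x k) j = ∑ k ∈ Finset.range n, dig (A.getD k 0) j * dig x k ∧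
      dig (∑ k ∈ Finset.range n, A.getD k 0 * dig x k) j ≤ n * 36 := by
  intro n
  induction n with
  | zero => intro _ j _; simp [dig_null]
  | succ n ih =>
    intro hn j hj
    have hb : ∀ i < 45, dig (A.getD n 0) i * dig x n ≤ 36 := fun i hi =>
      le_trans (Nat.mul_le_mul (Nat.le_of_lt_succ (hA.2 n (by omega) i hi))
        (Nat.le_of_lt_succ (hx n (by omega)))) (by norm_num)
    have e : dig (∑ k ∈ Finset.range (n + 1), A.getD k 0 * dig x k) j =
        dig (A.getD n 0) j * dig x n + dig (∑ k ∈ Finset.range n, A.getD k 0 * dig x k) j := by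
      rw [Finset.sum_range_succ, Nat.add_comm]
      exact dig_lin _ j _ _ fun i hi => by
        have := (ih (by omega) i (by omega)).2
        have := hb i (by omega)
        omega
    refine ⟨by rw [e, (ih (by omega) j hj).1, Finset.sum_range_succ _ n, Nat.add_comm], ?_⟩
    have := (ih (by omega) j hj).2
    have := hb j hj
    omega

attribute [local irreducible] dig reduce comb

theorem vecMul_toM (v : Fin 45 → ZMod 7) (A : List ℕ) (j : Fin 45) :
    (v ᵥ* toM A) j = ∑ k : Fin 45, v k * (dig (A.getD k 0) j : ZMod 7) := rfl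

set_option maxHeartbeats 400000 in
theorem toV_rowMul {A : List ℕ} {r : ℕ} (hA : Good A) (hr : Small r) :
    toV (rowMul r A) = toV r ᵥ* toM A := by
  funext j
  have e1 : dig (rowMul r A) j = dig (comb A r) j % 7 := dig_reduce _ j.2
  have e2 : dig (comb A r) j = ∑ k ∈ Finset.range 45, dig (A.getD k 0) j * dig r k := by
    rw [comb_sum A r, hA.1]
    exact (dig_comb hA hr 45 (Nat.le_refl _) j j.2).1
  calc toV (rowMul r A) j = ((dig (rowMul r A) j : ℕ) : ZMod 7) := rfl
    _ = ((∑ k ∈ Finset.range 45, dig (A.getD k 0) j * dig r k : ℕ) : ZMod 7) := by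
      rw [e1, ZMod.natCast_mod, e2]
    _ = ∑ k : Fin 45, toV r k * (dig (A.getD k 0) j : ZMod 7) := by
      rw [Nat.cast_sum, ← Fin.sum_univ_eq_sum_range]
      refine Finset.sum_congr (Eq.refl _) fun k _ => ?_
      rw [Nat.cast_mul, mul_comm]
      exact congrArg (· * _) (Eq.refl (toV r k))
    _ = (toV r ᵥ* toM A) j := (vecMul_toM _ _ _).symm

theorem small_rowMul (r : ℕ) (A : List ℕ) : Small (rowMul r A) := small_reduce _

theorem runTo_spec (G : ℕ → List ℕ) : ∀ (w : List ℕ), (∀ x ∈ w, Good (G x)) → ∀ (r t : ℕ), Small r →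
    runTo G w r t = true → toV r ᵥ* (w.map fun x => toM (G x)).prod = toV t
  | [], _, r, t, _, h => by
    have e : r = t := Nat.eq_of_beq_eq_true h
    rw [List.map_nil, List.prod_nil, Matrix.vecMul_one, e]
  | x :: w, hG, r, t, hr, h => by
    have h' : runTo G w (rowMul r (G x)) t = true := by
      have e : runTo G (x :: w) r t = force (rowMul r (G x)) fun r' => runTo G w r' t := rfl
      rw [e, force_eq] at h
      exact h
    rw [List.map_cons, List.prod_cons, ← Matrix.vecMul_vecMul,
      ← toV_rowMul (hG x (List.mem_cons_self ..)) hr]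
    exact runTo_spec G w (fun y hy => hG y (List.mem_cons_of_mem _ hy)) _ _ (small_rowMul _ _) h'

/-- a unit row -/
def unit (i : ℕ) : ℕ := Nat.shiftLeft 1 (Nat.mul 16 i)

theorem unit_dig : ∀ i < 45, ∀ j < 45, dig (unit i) j = if i = j then 1 else 0 := by decide +kernel

theorem small_unit {i : ℕ} (hi : i < 45) : Small (unit i) := fun j hj => by
  rw [unit_dig i hi j hj]; split <;> omega

theorem toV_unit (i : Fin 45) : toV (unit i) = Pi.single i 1 := by
  funext j
  rw [toV, unit_dig i i.2 j j.2, Pi.single_apply]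
  rcases eq_or_ne i j with h | h
  · simp [h]
  · rw [if_neg (fun e => h (Fin.ext e)), if_neg (Ne.symm h), Nat.cast_zero]

theorem toV_scale {c r : ℕ} (hc : c < 7) (hr : Small r) : toV (reduce (Nat.mul r c)) = (c : ZMod 7) • toV r := by
  funext j
  have e : dig (r * c + 0) j = dig r j * c + dig 0 j := dig_lin c j r 0 fun i hi => by
    have hri : dig r i < 7 := hr i (lt_of_le_of_lt hi j.2)
    rw [dig_null]
    have : dig r i * c ≤ 6 * 6 := Nat.mul_le_mul (by omega) (by omega)
    omega
  rw [dig_null, Nat.add_zero, Nat.add_zero] at e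
  rw [toV, dig_reduce _ j.2, ZMod.natCast_mod, Pi.smul_apply, smul_eq_mul, toV]
  show ((dig (r * c) j : ℕ) : ZMod 7) = _
  rw [e, Nat.cast_mul, mul_comm]

/-- the word is a scalar matrix -/
noncomputable def scalOK (G : ℕ → List ℕ) (w : List ℕ) (c : ℕ) : Bool :=
  (List.range 45).all fun i => runTo G w (unit i) (Nat.mul c (unit i))

theorem scal_spec (G : ℕ → List ℕ) (w : List ℕ) (hG : ∀ x ∈ w, Good (G x)) {c : ℕ} (hc : c < 7)
    (h : scalOK G w c = true) :
    (w.map fun x => toM (G x)).prod = Matrix.scalar (Fin 45) (c : ZMod 7) := by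
  refine Matrix.ext fun i j => ?_
  have h1 := runTo_spec G w hG (unit i) _ (small_unit i.2)
    (List.all_eq_true.mp h i (List.mem_range.mpr i.2))
  have e : reduce (Nat.mul (unit i) c) = Nat.mul c (unit i) := by
    have : ∀ i < 45, ∀ c < 7, Nat.beq (reduce (Nat.mul (unit i) c)) (Nat.mul c (unit i)) = true := by decide +kernel
    exact Nat.eq_of_beq_eq_true (this i i.2 c hc)
  rw [← e, toV_scale hc (small_unit i.2), toV_unit] at h1
  have h2 := congrFun h1 j
  rw [Matrix.single_one_vecMul] at h2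
  rw [show ((w.map fun x => toM (G x)).prod) i j = _ from h2, Pi.smul_apply, Matrix.scalar_apply,
    Matrix.diagonal_apply, Pi.single_apply, smul_eq_mul]
  rcases eq_or_ne i j with h | h
  · subst h; simp
  · rw [if_neg (Ne.symm h), if_neg h, mul_zero]

/-- diagonalisation certificate: the rows of `P` are eigenrows, the first `n` fixed, the others negated -/
noncomputable def diagOK (A P R : List ℕ) (n : ℕ) : Bool :=
  ((List.range 45).all fun i => Nat.beq (rowMul (P.getD i 0) A)
    (reduce (Nat.mul (P.getD i 0) (bif Nat.blt i n then 1 else 6)))) &&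
  ((List.range 45).all fun i => Nat.beq (rowMul (P.getD i 0) R) (unit i))

theorem det_spec {A P R : List ℕ} {n : ℕ} (hA : Good A) (hP : Good P) (hR : Good R)
    (hn : (∏ i : Fin 45, (if (i : ℕ) < n then (1 : ZMod 7) else 6)) = 1)
    (h : diagOK A P R n = true) : (toM A).det = 1 := by
  rw [diagOK, Bool.and_eq_true] at h
  have hrow : ∀ i : Fin 45, toV (P.getD i 0) = (toM P) i := fun i => rfl
  have h1 : toM P * toM A = Matrix.diagonal (fun i : Fin 45 => if (i : ℕ) < n then (1 : ZMod 7) else 6) * toM P := by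
    refine Matrix.ext fun i j => ?_
    have e := Nat.eq_of_beq_eq_true (List.all_eq_true.mp h.1 i (List.mem_range.mpr i.2))
    have e2 := congrArg toV e
    rw [toV_rowMul hA (hP.2 i i.2), toV_scale (by cases Nat.blt i n <;> norm_num) (hP.2 i i.2), hrow] at e2
    rw [Matrix.mul_apply_eq_vecMul, e2, Matrix.diagonal_mul, Pi.smul_apply, smul_eq_mul]
    by_cases hi : (i : ℕ) < n
    · rw [if_pos hi, show Nat.blt i n = true from Nat.ble_eq_true_of_le hi]; simp
    · rw [if_neg hi, show Nat.blt i n = false from Bool.eq_false_iff.mpr fun e => hi (Nat.le_of_ble_eq_true e)]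
      simp
  have h2 : toM P * toM R = 1 := by
    refine Matrix.ext fun i j => ?_
    have e2 := congrArg toV (Nat.eq_of_beq_eq_true (List.all_eq_true.mp h.2 i (List.mem_range.mpr i.2)))
    rw [toV_rowMul hR (hP.2 i i.2), hrow, toV_unit] at e2
    rw [Matrix.mul_apply_eq_vecMul, e2, Matrix.one_apply, Pi.single_apply]
    exact if_congr eq_comm rfl rfl
  have d2 := congrArg Matrix.det h2
  rw [Matrix.det_mul, Matrix.det_one] at d2
  have d1 := congrArg Matrix.det h1
  rw [Matrix.det_mul, Matrix.det_mul, Matrix.det_diagonal, hn, one_mul] at d1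
  calc (toM A).det = ((toM P).det * (toM R).det) * (toM A).det := by rw [d2, one_mul]
    _ = ((toM P).det * (toM A).det) * (toM R).det := by ring
    _ = 1 := by rw [d1, d2]

end Cfsg.Agent.Spor.ONTriple
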